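import Groth.Agent.CycLib.ChowOp.PullDual
import Groth.Agent.QFDLib.DualBC
import Groth.Agent.FDesc.QuasiFlat
import Groth.Agent.ZClosLib.CohDescent
import Groth.Agent.HomShQC.Stalk

/-!
# Inverse images along flat morphisms commute with duals of coherent modules

* `isIso_pullDual`: `f^* (E^∨) ⟶ (f^* E)^∨` is an isomorphism for `f` flat and `E` coherent.
* `pullDDual`: `f^* (E^∨∨) ≅ (f^* E)^∨∨`.
-/

set_option autoImplicit false
set_option linter.style.haveILetI false
set_option maxHeartbeats 800000

universe u

open CategoryTheory CategoryTheory.Limits AlgebraicGeometry TopologicalSpace TensorProduct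

noncomputable section

namespace Groth.Agent.RefChBC

open Groth.Agent.PullStalk.Sky Groth.Agent.PullStalk.Exact Groth.Agent.QCoh Groth.Agent.PullStalk.Basic
  Groth.Agent.KFlat.StalkTensor Groth.Agent.ExtFilt.Stalkwise Groth.Agent.CycLib.ChowOp

variable {X Y : Scheme.{u}} (f : Y ⟶ X) {E : X.Modules}

theorem dualMap_id (A : X.Modules) : VBLib.DualDeg.dualMap (𝟙 A) = 𝟙 (RefHull.dual A) := by
  ext U h
  refine Subtype.ext (funext fun x => LinearMap.ext fun t => ?_)
  refine congrArg (h.1 x) ?_
  obtain ⟨W, hW, m, rfl⟩ := exists_germM_eq A x.1 t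
  rw [RefHull.stalkMapₗ_germ]
  rfl

/-- The dual of an isomorphism. -/
def dualIso {A B : X.Modules} (e : A ≅ B) : RefHull.dual B ≅ RefHull.dual A where
  hom := VBLib.DualDeg.dualMap e.hom
  inv := VBLib.DualDeg.dualMap e.inv
  hom_inv_id := by rw [← VBLib.DualDeg.dualMap_comp, Iso.inv_hom_id, dualMap_id]
  inv_hom_id := by rw [← VBLib.DualDeg.dualMap_comp, Iso.hom_inv_id, dualMap_id]

/-- The inverse image of the dual of a coherent module along a flat morphism is the dual of the
inverse image. -/
theorem isIso_pullDual [IsLocallyNoetherian X] [IsLocallyNoetherian Y] [Flat f] (hE : Coh.IsCoh E) :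
    IsIso (pullDual f E) := by
  classical
  refine KFlat.PullTensor.isIso_of_stalk_bijective _ fun y => ?_
  show Function.Bijective (stalkLin (pullDual f E) y)
  let := (f.stalkMap y).hom.toAlgebra
  let := moduleOver f E y
  let := moduleOver f (RefHull.dual E) y
  let := moduleOver f (Coh.structureModule X) y
  haveI : IsScalarTower (X.presheaf.stalk (f y)) (Y.presheaf.stalk y)
      (((Scheme.Modules.pullback f).obj E).presheaf.stalk y) := IsScalarTower.of_algebraMap_smul fun _ _ => rfl
  haveI : IsScalarTower (X.presheaf.stalk (f y)) (Y.presheaf.stalk y)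
      (((Scheme.Modules.pullback f).obj (RefHull.dual E)).presheaf.stalk y) :=
    IsScalarTower.of_algebraMap_smul fun _ _ => rfl
  haveI : IsScalarTower (X.presheaf.stalk (f y)) (Y.presheaf.stalk y)
      (((Scheme.Modules.pullback f).obj (Coh.structureModule X)).presheaf.stalk y) :=
    IsScalarTower.of_algebraMap_smul fun _ _ => rfl
  haveI : Module.Flat (X.presheaf.stalk (f y)) (Y.presheaf.stalk y) := Flat.stalkMap f y
  haveI : Module.Finite (X.presheaf.stalk (f y)) (E.presheaf.stalk (f y)) :=
    FDesc.QuasiFlat.finite_stalk_of_isCoh E hE (f y)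
  -- coordinates
  let u := oneBasis (f y)
  let eD := LinearEquiv.ofBijective (RefHull.evalStalk E (Coh.structureModule X) (f y))
    (VBLib.DualDeg.bijective_evalStalk hE (f y))
  let lX : (Coh.structureModule X).presheaf.stalk (f y) ≃ₗ[X.presheaf.stalk (f y)] X.presheaf.stalk (f y) :=
    u.equivFun.trans (LinearEquiv.funUnique PUnit.{1} _ _)
  let uY : Module.Basis PUnit.{1} (Y.presheaf.stalk y) ((Coh.structureModule Y).presheaf.stalk y) := (((Algebra.TensorProduct.basis (Y.presheaf.stalk y) u).map
    (isBaseChange_unitStalk f (Coh.structureModule X) y).equiv).map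
      (SHomIso.Stalk.stalkIso (QCoh.pullbackUnitIso f) y))
  let lY : (Coh.structureModule Y).presheaf.stalk y ≃ₗ[Y.presheaf.stalk y] Y.presheaf.stalk y :=
    uY.equivFun.trans (LinearEquiv.funUnique PUnit.{1} _ _)
  let eY := LinearEquiv.ofBijective (RefHull.evalStalk _ (Coh.structureModule Y) y)
    (VBLib.DualDeg.bijective_evalStalk (Groth.Agent.ZClosLib.CohDescent.isCoh_pullback f _ hE) y)
  let βE := (isBaseChange_unitStalk f E y).equiv
  let βD := (isBaseChange_unitStalk f (RefHull.dual E) y).equiv
  -- comparison with the base change of the dual of the stalk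
  let ℓ : (RefHull.dual E).presheaf.stalk (f y) ≃ₗ[X.presheaf.stalk (f y)]
      Module.Dual (X.presheaf.stalk (f y)) (E.presheaf.stalk (f y)) :=
    eD.trans (LinearEquiv.congrRight lX)
  let T : ((((Scheme.Modules.pullback f).obj E).presheaf.stalk y) →ₗ[Y.presheaf.stalk y]
      (Coh.structureModule Y).presheaf.stalk y) ≃ₗ[Y.presheaf.stalk y]
      Module.Dual (Y.presheaf.stalk y) ((Y.presheaf.stalk y) ⊗[X.presheaf.stalk (f y)] E.presheaf.stalk (f y)) :=
    (LinearEquiv.congrLeft _ _ βE.symm).trans (LinearEquiv.congrRight lY)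
  have hunit : ∀ a : (Coh.structureModule X).presheaf.stalk (f y),
      lY (stalkLin (QCoh.pullbackUnitIso f).hom y (unitStalkHom f (Coh.structureModule X) y a)) =
        algebraMap (X.presheaf.stalk (f y)) (Y.presheaf.stalk y) (lX a) := by
    intro a
    have ha : a = lX a • u PUnit.unit := by
      conv_lhs => rw [← u.sum_repr a, Fintype.sum_unique]
      rfl
    have huY : stalkLin (QCoh.pullbackUnitIso f).hom y
        (unitStalk f (Coh.structureModule X) y (u PUnit.unit)) = uY PUnit.unit := by
      simp only [uY, Module.Basis.map_apply, Algebra.TensorProduct.basis_apply, IsBaseChange.equiv_tmul, one_smul]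
      rfl
    have h1 : unitStalk f (Coh.structureModule X) y a =
        algebraMap (X.presheaf.stalk (f y)) (Y.presheaf.stalk y) (lX a) •
          unitStalk f (Coh.structureModule X) y (u PUnit.unit) := by
      rw [algebraMap_smul, ← map_smul, ← ha]
    let h : (Scheme.Modules.pullback f).obj (Coh.structureModule X) ⟶ Coh.structureModule Y :=
      (QCoh.pullbackUnitIso f).hom
    show lY (stalkLin h y (unitStalk f (Coh.structureModule X) y a)) = _
    have huY' : stalkLin h y (unitStalk f (Coh.structureModule X) y (u PUnit.unit)) = uY PUnit.unit := huY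
    rw [h1, map_smul, huY', map_smul]
    simp [lY]
  have hcomp : (T.toLinearMap ∘ₗ eY.toLinearMap ∘ₗ stalkLin (pullDual f E) y) ∘ₗ βD.toLinearMap =
      QFDLib.Phi (Y.presheaf.stalk y) (E.presheaf.stalk (f y)) ∘ₗ ℓ.toLinearMap.baseChange (Y.presheaf.stalk y) := by
    refine (TensorProduct.isBaseChange (R := X.presheaf.stalk (f y)) (M := (RefHull.dual E).presheaf.stalk (f y))
      (S := Y.presheaf.stalk y)).algHom_ext _ _ fun d => ?_
    refine (TensorProduct.isBaseChange (R := X.presheaf.stalk (f y)) (M := E.presheaf.stalk (f y))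
      (S := Y.presheaf.stalk y)).algHom_ext _ _ fun m => ?_
    simp only [TensorProduct.mk_apply, LinearMap.comp_apply, LinearEquiv.coe_coe, LinearMap.baseChange_tmul]
    rw [QFDLib.Phi_tmul, one_mul]
    have h2 : RefHull.evalStalk _ (Coh.structureModule Y) y
        (stalkLin (pullDual f E) y (unitStalkHom f (RefHull.dual E) y d)) (unitStalkHom f E y m) =
        stalkLin (QCoh.pullbackUnitIso f).hom y (unitStalkHom f (Coh.structureModule X) y
          (RefHull.evalStalk E (Coh.structureModule X) (f y) d m)) :=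
      (pullDual_eval f E y _ _).trans (pairHom_unit f E y m d)
    have hβD : βD ((1 : Y.presheaf.stalk y) ⊗ₜ[X.presheaf.stalk (f y)] d) = unitStalkHom f (RefHull.dual E) y d := by
      simp only [βD, IsBaseChange.equiv_tmul, one_smul]; rfl
    have hβE : βE ((1 : Y.presheaf.stalk y) ⊗ₜ[X.presheaf.stalk (f y)] m) = unitStalkHom f E y m := by
      simp only [βE, IsBaseChange.equiv_tmul, one_smul]; rfl
    show lY (eY (stalkLin (pullDual f E) y (βD (1 ⊗ₜ d))) (βE (1 ⊗ₜ m))) = _
    rw [hβD, hβE]
    exact (congrArg lY h2).trans (hunit _)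
  have hb : Function.Bijective ((T.toLinearMap ∘ₗ eY.toLinearMap ∘ₗ stalkLin (pullDual f E) y) ∘ₗ βD.toLinearMap) := by
    rw [hcomp]
    exact (QFDLib.Phi_bijective (A₁ := Y.presheaf.stalk y) _).comp
      (LinearEquiv.bijective (ℓ.baseChange (X.presheaf.stalk (f y)) (Y.presheaf.stalk y) _ _))
  have hb' : Function.Bijective (T.toLinearMap ∘ₗ eY.toLinearMap ∘ₗ stalkLin (pullDual f E) y) :=
    (Function.Bijective.of_comp_iff _ βD.bijective).1 hb
  exact (Function.Bijective.of_comp_iff' (eY.trans T).bijective (stalkLin (pullDual f E) y)).1 hb'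

/-- Inverse images along flat morphisms commute with double duals of coherent modules. -/
def pullDDual [IsLocallyNoetherian X] [IsLocallyNoetherian Y] [Flat f] (hE : Coh.IsCoh E) :
    (Scheme.Modules.pullback f).obj (RefHull.ddual E) ≅ RefHull.ddual ((Scheme.Modules.pullback f).obj E) :=
  haveI := isIso_pullDual f (HomShQC.isCoh_dual E hE)
  haveI := isIso_pullDual f hE
  asIso (pullDual f (RefHull.dual E)) ≪≫ dualIso (asIso (pullDual f E)).symm

end Groth.Agent.RefChBC
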